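import Mathlib

set_option autoImplicit false

/-! Definitions for the bound `|P : Φ(P)| ≤ |N| - 1` (2-group acting faithfully on an abelian group of odd order). -/

namespace Cfsg.Agent.Lib.Helper69.FB

universe u v

/-- the number of homomorphisms `P → {±1}` -/
noncomputable def hh (P : Type*) [Group P] : ℕ := Nat.card (P →* ℤˣ)

theorem finite_hom (P : Type*) [Group P] [Finite P] : Finite (P →* ℤˣ) :=
  Finite.of_injective (fun f : P →* ℤˣ => (f : P → ℤˣ)) DFunLike.coe_injective

/-- the bounding function -/
def F (n : ℕ) : ℕ := if n = 1 then 1 else if n = 3 then 2 else (n - 1) / 2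

/-- every finite 2-group acting faithfully on `N` satisfies the bound -/
def Bd (N : Type v) [CommGroup N] : Prop :=
  ∀ (P : Type u) [Group P] [Finite P] (φ : P →* MulAut N), Function.Injective φ → IsPGroup 2 P →
    hh P ≤ F (Nat.card N)

variable {P : Type u} [Group P] {N : Type v} [CommGroup N]

/-- restriction of an action to an invariant subgroup -/
def resHom (φ : P →* MulAut N) (M : Subgroup N) (h : ∀ g x, x ∈ M → φ g x ∈ M) : P →* MulAut M where
  toFun g :=
    { toFun := fun x => ⟨φ g x, h g x x.2⟩
      invFun := fun x => ⟨φ g⁻¹ x, h g⁻¹ x x.2⟩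
      left_inv := fun x => by
        apply Subtype.ext
        change φ g⁻¹ (φ g x) = x
        rw [← MulAut.mul_apply, ← map_mul, inv_mul_cancel, map_one, MulAut.one_apply]
      right_inv := fun x => by
        apply Subtype.ext
        change φ g (φ g⁻¹ x) = x
        rw [← MulAut.mul_apply, ← map_mul, mul_inv_cancel, map_one, MulAut.one_apply]
      map_mul' := fun x y => by
        apply Subtype.ext
        change φ g (x * y) = φ g x * φ g y
        rw [map_mul] }
  map_one' := by
    ext x
    change φ 1 x = x
    rw [map_one, MulAut.one_apply]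
  map_mul' := fun a b => by
    ext x
    change φ (a * b) x = φ a (φ b x)
    rw [map_mul, MulAut.mul_apply]

theorem resHom_apply_coe (φ : P →* MulAut N) (M : Subgroup N) (h : ∀ g x, x ∈ M → φ g x ∈ M) (g : P)
    (x : M) : ((resHom φ M h g x : M) : N) = φ g x := rfl

/-- fixed points of an automorphism -/
def fixS (σ : MulAut N) : Subgroup N where
  carrier := {x | σ x = x}
  one_mem' := map_one σ
  mul_mem' := fun {a b} ha hb => by
    change σ (a * b) = a * b
    rw [map_mul, show σ a = a from ha, show σ b = b from hb]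
  inv_mem' := fun {a} ha => by
    change σ a⁻¹ = a⁻¹
    rw [map_inv, show σ a = a from ha]

/-- inverted points of an automorphism -/
def invS (σ : MulAut N) : Subgroup N where
  carrier := {x | σ x = x⁻¹}
  one_mem' := by
    change σ 1 = 1⁻¹
    rw [map_one, inv_one]
  mul_mem' := fun {a b} ha hb => by
    change σ (a * b) = (a * b)⁻¹
    rw [map_mul, show σ a = a⁻¹ from ha, show σ b = b⁻¹ from hb, mul_inv]
  inv_mem' := fun {a} ha => by
    change σ a⁻¹ = a⁻¹⁻¹
    rw [map_inv, show σ a = a⁻¹ from ha]

theorem mem_fixS {σ : MulAut N} {x : N} : x ∈ fixS σ ↔ σ x = x := Iff.rfl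

theorem mem_invS {σ : MulAut N} {x : N} : x ∈ invS σ ↔ σ x = x⁻¹ := Iff.rfl

end Cfsg.Agent.Lib.Helper69.FB
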