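import Cfsg.Agent.Lib.Helper69.FB.Defs
import Cfsg.Agent.Lib.Helper52.FPF
import Cfsg.Agent.Lib.Helper1.Nilpotent

set_option autoImplicit false

namespace Cfsg.Agent.Lib.Helper69.FB

theorem FO_mem_zpowers {P : Type*} [Group P] {z x : P} (hz : z * z = 1)
    (hx : x ∈ Subgroup.zpowers z) : x = 1 ∨ x = z := by
  obtain ⟨k, rfl⟩ := Subgroup.mem_zpowers_iff.1 hx
  rcases Int.even_or_odd' k with ⟨m, rfl | rfl⟩
  · left; rw [zpow_mul, zpow_two, hz, one_zpow]
  · right; rw [zpow_add, zpow_mul, zpow_two, hz, one_zpow, one_mul, zpow_one]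

theorem exists_four {P : Type*} [Group P] [Finite P] (hP : IsPGroup 2 P) (A : Subgroup P)
    (hA : A.Normal) (hc : IsMulCommutative A) (hnc : ¬ IsCyclic A) :
    ∃ z e : P, z ∈ Subgroup.center P ∧ z ≠ 1 ∧ z * z = 1 ∧ e ≠ 1 ∧ e * e = 1 ∧ e ≠ z ∧
      ∀ g : P, g * e * g⁻¹ = e ∨ g * e * g⁻¹ = e * z := by
  have : Fact (Nat.Prime 2) := ⟨Nat.prime_two⟩
  have hnil : Group.IsNilpotent P := hP.isNilpotent
  have hcomm : ∀ x ∈ A, ∀ y ∈ A, x * y = y * x := by
    intro x hx y hy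
    have := hc.is_comm.comm ⟨x, hx⟩ ⟨y, hy⟩
    exact congrArg Subtype.val this
  let Ω : Subgroup P :=
    { carrier := {x | x ∈ A ∧ x * x = 1}
      one_mem' := ⟨A.one_mem, one_mul 1⟩
      mul_mem' := by
        rintro x y ⟨hx, hx2⟩ ⟨hy, hy2⟩
        refine ⟨A.mul_mem hx hy, ?_⟩
        calc x * y * (x * y) = x * (y * x) * y := by group
          _ = x * (x * y) * y := by rw [hcomm y hy x hx]
          _ = (x * x) * (y * y) := by group
          _ = 1 := by rw [hx2, hy2, one_mul]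
      inv_mem' := by
        rintro x ⟨hx, hx2⟩
        refine ⟨A.inv_mem hx, ?_⟩
        rw [← mul_inv_rev, hx2, inv_one] }
  have hΩn : Ω.Normal := ⟨fun x hx g => ⟨hA.conj_mem x hx.1 g, by
     calc g * x * g⁻¹ * (g * x * g⁻¹) = g * (x * x) * g⁻¹ := by group
       _ = 1 := by rw [hx.2]; group⟩⟩
  -- two independent involutions
  obtain ⟨c, d, hcΩ, hdΩ, hd1, hcd⟩ : ∃ c d : P, c ∈ Ω ∧ d ∈ Ω ∧ d ≠ 1 ∧ c ∉ Subgroup.zpowers d := by
    letI : CommGroup A := { (inferInstance : Group A) with mul_comm := fun x y => hc.is_comm.comm x y }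
    obtain ⟨r, c, d, hr, hcr, hd, hcd⟩ := Cfsg.Agent.Lib.Helper52.exists_rank_two (A := A) hnc
    have hr2 : r = 2 := by
      obtain ⟨m, hm⟩ := (hP.to_subgroup A).exists_orderOf_eq_pow d
      rw [hd] at hm
      have : r ∣ 2 ^ m := by rw [← hm]
      exact (Nat.prime_dvd_prime_iff_eq hr Nat.prime_two).1 (hr.dvd_of_dvd_pow this)
    subst hr2
    refine ⟨c, d, ⟨c.2, ?_⟩, ⟨d.2, ?_⟩, ?_, ?_⟩
    · rw [pow_two] at hcr
      exact congrArg Subtype.val hcr
    · have : d ^ 2 = 1 := by rw [← hd]; exact pow_orderOf_eq_one d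
      rw [pow_two] at this
      exact congrArg Subtype.val this
    · intro h1
      have : d = 1 := Subtype.ext h1
      rw [this, orderOf_one] at hd
      omega
    · intro hmem
      apply hcd
      obtain ⟨k, hk⟩ := Subgroup.mem_zpowers_iff.1 hmem
      exact Subgroup.mem_zpowers_iff.2 ⟨k, Subtype.ext (by rw [Subgroup.coe_zpow]; exact hk)⟩
  have hΩne : Ω ≠ ⊥ := by
    intro hbot
    rw [hbot, Subgroup.mem_bot] at hdΩ
    exact hd1 hdΩ
  obtain ⟨⟨z, hzΩ, hzc⟩, hz1'⟩ :=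
    Subgroup.ne_bot_iff_exists_ne_one.1 (Cfsg.Agent.Lib.Helper1.normal_inf_center_ne_bot hΩne)
  have hz1 : z ≠ 1 := fun h => hz1' (Subtype.ext h)
  have hz2 : z * z = 1 := hzΩ.2
  have hZn : (Subgroup.zpowers z).Normal :=
    Cfsg.Agent.Lib.Helper1.normal_of_le_center (by rw [Subgroup.zpowers_le]; exact hzc)
  obtain ⟨x, hxΩ, hxZ⟩ : ∃ x ∈ Ω, x ∉ Subgroup.zpowers z := by
    by_contra hcon
    push Not at hcon
    have h1 := FO_mem_zpowers hz2 (hcon d hdΩ)
    have hdz : d = z := h1.resolve_left hd1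
    apply hcd
    rw [hdz]
    exact hcon c hcΩ
  have hnilQ : Group.IsNilpotent (P ⧸ Subgroup.zpowers z) := (hP.to_quotient _).isNilpotent
  have hmapn : (Ω.map (QuotientGroup.mk' (Subgroup.zpowers z))).Normal :=
    hΩn.map _ (QuotientGroup.mk'_surjective _)
  have hmapne : Ω.map (QuotientGroup.mk' (Subgroup.zpowers z)) ≠ ⊥ := by
    intro hbot
    have : QuotientGroup.mk' (Subgroup.zpowers z) x ∈ Ω.map (QuotientGroup.mk' (Subgroup.zpowers z)) :=
      ⟨x, hxΩ, rfl⟩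
    rw [hbot, Subgroup.mem_bot] at this
    exact hxZ ((QuotientGroup.eq_one_iff x).1 this)
  obtain ⟨⟨e', ⟨e, heΩ, rfl⟩, hec⟩, he1'⟩ :=
    Subgroup.ne_bot_iff_exists_ne_one.1 (Cfsg.Agent.Lib.Helper1.normal_inf_center_ne_bot hmapne)
  have heZ : e ∉ Subgroup.zpowers z := by
    intro h
    apply he1'
    apply Subtype.ext
    exact (QuotientGroup.eq_one_iff e).2 h
  refine ⟨z, e, hzc, hz1, hz2, ?_, heΩ.2, ?_, ?_⟩
  · rintro rfl; exact heZ (Subgroup.one_mem _)
  · rintro rfl; exact heZ (Subgroup.mem_zpowers _)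
  · intro g
    have h1 : QuotientGroup.mk' (Subgroup.zpowers z) (e⁻¹ * (g * e * g⁻¹)) = 1 := by
      rw [map_mul, map_mul, map_mul, map_inv, map_inv]
      have := Subgroup.mem_center_iff.1 hec (QuotientGroup.mk' (Subgroup.zpowers z) g)
      rw [this, mul_inv_cancel_right, inv_mul_cancel]
    have h2 := FO_mem_zpowers hz2 ((QuotientGroup.eq_one_iff _).1 h1)
    rcases h2 with h2 | h2
    · left
      exact (inv_mul_eq_one.1 h2).symm
    · right
      rw [← h2, mul_inv_cancel_left]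

end Cfsg.Agent.Lib.Helper69.FB
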